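import Cfsg.Agent.S0118
import Cfsg.Agent.OddOrder.BG9.LocalFrattini
import Cfsg.Agent.Classification.SharplyThreeProjective.Basic

/-!
# Recognition of `PGL (2, q)`, `q` odd, from its order and its numbers of involutions and `p`-elements

Let `|G| = q (q² - 1)`, let `G` have `q²` involutions and `q² - 1` elements of order `p`, and let no
order of an element be a proper multiple of `p`. Glauberman's `ZJ`-theorem makes the Sylow
`p`-subgroups abelian TI groups, `q + 1` in number, on which `G` is sharply triply transitive; a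
count of involutions shows that every element swapping two of them is an involution, so that the
swap inverts the two point stabiliser.
-/

set_option autoImplicit false
set_option linter.style.haveILetI false
set_option linter.unusedSectionVars false

namespace CfsgLib.PGLSameCounts

open MulAction

variable {G : Type*} [Group G] [Finite G] {p n : ℕ} [Fact p.Prime]

/-- The arithmetic hypotheses. -/
structure Data (G : Type*) [Group G] (p n : ℕ) : Prop where
  odd : p ≠ 2
  pos : n ≠ 0
  card_eq : Nat.card G = p ^ n * ((p ^ n) ^ 2 - 1)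
  card_p : Nat.card {g : G // orderOf g = p} = (p ^ n) ^ 2 - 1
  card_two : Nat.card {g : G // orderOf g = 2} = (p ^ n) ^ 2
  order : ∀ g : G, p ∣ orderOf g → orderOf g = p

namespace Data

variable (D : Data G p n)
include D

theorem three_le : 3 ≤ p ^ n := by
  have h2 := (Fact.out : p.Prime).two_le
  have h3 := D.odd
  exact le_trans (by omega) (Nat.le_self_pow D.pos p)

theorem dvd_q_of_dvd_card {k : ℕ} (h : p ^ k ∣ Nat.card G) : p ^ k ∣ p ^ n := by
  have hp : p.Prime := Fact.out
  rw [D.card_eq] at h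
  refine (Nat.Coprime.pow_left k ?_).dvd_of_dvd_mul_right h
  rw [hp.coprime_iff_not_dvd]
  intro hd
  have h2 : p ∣ (p ^ n) ^ 2 := (dvd_pow_self p D.pos).trans (dvd_pow_self _ two_ne_zero)
  have h1 := Nat.dvd_sub h2 hd
  rw [Nat.sub_sub_self (Nat.one_le_pow _ _ (by linarith [D.three_le]))] at h1
  exact hp.ne_one (Nat.dvd_one.1 h1)

theorem pow_eq_one_of_commute {x y : G} (hx : orderOf x = p) (hc : Commute x y) : y ^ p = 1 := by
  by_cases hy : p ∣ orderOf y
  · rw [← D.order y hy, pow_orderOf_eq_one]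
  · have hco : (orderOf x).Coprime (orderOf y) := by
      rw [hx]; exact (Fact.out : p.Prime).coprime_iff_not_dvd.2 hy
    have h := hc.orderOf_mul_eq_mul_orderOf_of_coprime hco
    have h' := D.order (x * y) (by rw [h, hx]; exact dvd_mul_right p _)
    rw [h, hx] at h'
    rw [orderOf_eq_one_iff.1 (mul_eq_left₀ (Fact.out : p.Prime).ne_zero |>.1 h'), one_pow]

theorem isPGroup_centralizer {x : G} (hx : orderOf x = p) :
    IsPGroup p (Subgroup.centralizer ({x} : Set G)) := fun y =>
  ⟨1, Subtype.ext (by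
    rw [pow_one]
    exact D.pow_eq_one_of_commute hx (Subgroup.mem_centralizer_singleton_iff.1 y.2).symm)⟩

theorem centralizer_card_and_conj {x : G} (hx : orderOf x = p) :
    Nat.card (Subgroup.centralizer ({x} : Set G)) = p ^ n ∧
      ∀ y : G, orderOf y = p → ∃ g : G, g * x * g⁻¹ = y := by
  set C := Subgroup.centralizer ({x} : Set G) with hC
  let f : G ⧸ C → {g : G // orderOf g = p} :=
    Quotient.lift (fun g => ⟨g * x * g⁻¹, by rw [← MulAut.conj_apply, MulEquiv.orderOf_eq, hx]⟩)
      fun a b hab => by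
        have h := Subgroup.mem_centralizer_singleton_iff.1 (QuotientGroup.leftRel_apply.1 hab)
        apply Subtype.ext
        show a * x * a⁻¹ = b * x * b⁻¹
        calc a * x * a⁻¹ = a * (x * (a⁻¹ * b)) * b⁻¹ := by group
          _ = a * ((a⁻¹ * b) * x) * b⁻¹ := by rw [h]
          _ = b * x * b⁻¹ := by group
  have hf : Function.Injective f := by
    rintro ⟨a⟩ ⟨b⟩ h
    have h' : a * x * a⁻¹ = b * x * b⁻¹ := congrArg Subtype.val h
    refine QuotientGroup.eq.2 (Subgroup.mem_centralizer_singleton_iff.2 ?_)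
    calc a⁻¹ * b * x = a⁻¹ * (b * x * b⁻¹) * b := by group
      _ = a⁻¹ * (a * x * a⁻¹) * b := by rw [h']
      _ = x * (a⁻¹ * b) := by group
  have hle := Nat.card_le_card_of_injective f hf
  rw [D.card_p] at hle
  obtain ⟨k, hk⟩ := IsPGroup.iff_card.1 (D.isPGroup_centralizer hx)
  rw [← hC] at hk
  have hkq : p ^ k ≤ p ^ n :=
    Nat.le_of_dvd (by linarith [D.three_le]) (D.dvd_q_of_dvd_card (hk ▸ C.card_subgroup_dvd_card))
  have hmul := C.index_mul_card
  rw [hk, D.card_eq] at hmul
  have hidx : C.index = (p ^ n) ^ 2 - 1 := by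
    refine le_antisymm hle ?_
    have h1 : p ^ n * ((p ^ n) ^ 2 - 1) ≤ p ^ n * C.index := by
      rw [← hmul, mul_comm (p ^ n)]
      exact Nat.mul_le_mul_left _ hkq
    exact Nat.le_of_mul_le_mul_left h1 (by linarith [D.three_le])
  refine ⟨?_, fun y hy => ?_⟩
  · rw [hk]
    rw [hidx, mul_comm (p ^ n)] at hmul
    refine Nat.eq_of_mul_eq_mul_left (Nat.pos_of_ne_zero fun h => ?_) hmul
    nlinarith [D.three_le, Nat.sub_eq_zero_iff_le.1 h]
  · have hb := hf.bijective_of_nat_card_le (by rw [D.card_p]; exact hidx.ge)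
    obtain ⟨⟨g⟩, hg⟩ := hb.2 ⟨y, hy⟩
    exact ⟨g, congrArg Subtype.val hg⟩

theorem sl_two_free :
    ¬ ∃ (H K : Subgroup G) (_ : (K.subgroupOf H).Normal),
      Nonempty ((H ⧸ K.subgroupOf H) ≃* Matrix.SpecialLinearGroup (Fin 2) (ZMod p)) := by
  rintro ⟨H, K, hK, ⟨e⟩⟩
  have hp : p.Prime := Fact.out
  let u : Matrix.SpecialLinearGroup (Fin 2) (ZMod p) :=
    ⟨!![-1, 1; 0, -1], by simp [Matrix.det_fin_two]⟩
  have hu : ∀ k : ℕ, (↑(u ^ k) : Matrix (Fin 2) (Fin 2) (ZMod p)) =
      !![(-1) ^ k, (k : ZMod p) * (-1) ^ (k + 1); 0, (-1) ^ k] := by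
    intro k
    induction k with
    | zero => simp [Matrix.one_fin_two]
    | succ k ih =>
      rw [pow_succ, Matrix.SpecialLinearGroup.coe_mul, ih]
      show !![(-1) ^ k, (k : ZMod p) * (-1) ^ (k + 1); 0, (-1) ^ k] * !![-1, 1; 0, -1] = _
      ext i j
      fin_cases i <;> fin_cases j <;> simp [Matrix.mul_apply, Fin.sum_univ_two, pow_succ] <;> ring
  obtain ⟨h, hh⟩ := QuotientGroup.mk_surjective (e.symm u)
  have hdvd : orderOf u ∣ orderOf (h : G) := by
    rw [Subgroup.orderOf_coe, ← MulEquiv.orderOf_eq e.symm u, ← hh]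
    exact orderOf_map_dvd (QuotientGroup.mk' (K.subgroupOf H)) h
  have hpu : p ∣ orderOf u := by
    have h1 := congrFun (congrFun (hu (orderOf u)) 0) 1
    rw [pow_orderOf_eq_one] at h1
    simp at h1
    exact (CharP.cast_eq_zero_iff (ZMod p) p _).1 h1
  have hord := D.order _ (hpu.trans hdvd)
  rw [hord] at hdvd
  have h2 := congrFun (congrFun (hu p) 0) 0
  rw [orderOf_dvd_iff_pow_eq_one.1 hdvd] at h2
  simp [(hp.odd_of_ne_two D.odd).neg_one_pow] at h2
  have h3 : ((2 : ℕ) : ZMod p) = 0 := by push_cast; linear_combination h2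
  rw [CharP.cast_eq_zero_iff (ZMod p) p] at h3
  exact D.odd ((Nat.prime_dvd_prime_iff_eq hp Nat.prime_two).1 h3)

theorem card_sylow_eq (P : Sylow p G) : Nat.card P = p ^ n := by
  obtain ⟨k, hk⟩ := IsPGroup.iff_card.1 P.isPGroup'
  refine Nat.dvd_antisymm ?_ (P.pow_dvd_card_of_pow_dvd_card (by rw [D.card_eq]; exact dvd_mul_right _ _))
  rw [hk]
  exact D.dvd_q_of_dvd_card (hk ▸ Subgroup.card_subgroup_dvd_card (P : Subgroup G))

theorem orderOf_of_mem (P : Sylow p G) {x : G} (hx : x ∈ P) (h1 : x ≠ 1) : orderOf x = p := by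
  obtain ⟨k, hk⟩ := IsPGroup.iff_orderOf.1 P.isPGroup' ⟨x, hx⟩
  rw [← Subgroup.orderOf_coe] at hk
  refine D.order x ?_
  rcases k with _ | k
  · rw [pow_zero] at hk
    exact absurd (orderOf_eq_one_iff.1 hk) h1
  · rw [show orderOf x = _ from hk]
    exact dvd_pow_self p k.succ_ne_zero

theorem sylow_comm (P : Sylow p G) {x y : G} (hx : x ∈ P) (hy : y ∈ P) : Commute x y := by
  classical
  set Z := Cfsg.centerThompsonOf p (P : Subgroup G) with hZ
  have hPne : (P : Subgroup G) ≠ ⊥ := fun h => by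
    have h1 := D.card_sylow_eq P
    rw [show Nat.card P = Nat.card (P : Subgroup G) from rfl, h, Subgroup.card_bot] at h1
    linarith [D.three_le]
  have hmem : ∀ u ∈ P, u ∈ Z := by
    intro u hu
    by_cases hu1 : u = 1
    · rw [hu1]; exact one_mem _
    obtain ⟨z, hz, hz1⟩ :=
      (Subgroup.bot_or_exists_ne_one Z).resolve_left (OddOrder.centerThompsonOf_ne_bot P.isPGroup' hPne)
    obtain ⟨g, hg⟩ := (D.centralizer_card_and_conj
      (D.orderOf_of_mem P (OddOrder.centerThompsonOf_le p _ hz) hz1)).2 u (D.orderOf_of_mem P hu hu1)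
    obtain ⟨m, hm, hma⟩ := Cfsg.Agent.S0118.result D.odd D.sl_two_free P {z}
      (Set.singleton_subset_iff.2 (OddOrder.centerThompsonOf_le p _ hz)) g⁻¹
      (by rw [Set.image_singleton, inv_inv, hg, Set.singleton_subset_iff]; exact hu)
    have h1 := hma z rfl
    rw [inv_inv, hg] at h1
    rw [← h1]
    exact (Subgroup.mem_normalizer_iff''.1 hm z).1 hz
  obtain ⟨hxJ, -⟩ := Subgroup.mem_inf.1 (hmem x hx)
  obtain ⟨-, hyC⟩ := Subgroup.mem_inf.1 (hmem y hy)
  exact Subgroup.mem_centralizer_iff.1 hyC x hxJ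

theorem centralizer_eq (P : Sylow p G) {x : G} (hx : x ∈ P) (h1 : x ≠ 1) :
    Subgroup.centralizer ({x} : Set G) = P := by
  refine (Subgroup.eq_of_le_of_card_ge (fun y hy => Subgroup.mem_centralizer_singleton_iff.2
    (D.sylow_comm P hy hx).eq) ?_).symm
  rw [(D.centralizer_card_and_conj (D.orderOf_of_mem P hx h1)).1]
  exact (D.card_sylow_eq P).ge

theorem sylow_ti {P Q : Sylow p G} {x : G} (hP : x ∈ P) (hQ : x ∈ Q) (h1 : x ≠ 1) : P = Q :=
  Sylow.ext ((D.centralizer_eq P hP h1).symm.trans (D.centralizer_eq Q hQ h1))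

theorem card_sylow : Nat.card (Sylow p G) = p ^ n + 1 := by
  classical
  haveI := Fintype.ofFinite G
  haveI := Fintype.ofFinite (Sylow p G)
  let f : (Σ P : Sylow p G, {x : (P : Subgroup G) // x ≠ 1}) → {g : G // orderOf g = p} :=
    fun s => ⟨s.2.1, D.orderOf_of_mem s.1 s.2.1.2 fun h => s.2.2 (Subtype.ext h)⟩
  have hf : Function.Bijective f := by
    refine ⟨?_, fun g => ?_⟩
    · rintro ⟨P, x, hx⟩ ⟨Q, y, hy⟩ h
      have h' : (x : G) = y := congrArg Subtype.val h
      obtain rfl := D.sylow_ti x.2 (h' ▸ y.2) fun h => hx (Subtype.ext h)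
      obtain rfl : x = y := Subtype.ext h'
      rfl
    · obtain ⟨P, hP⟩ := (D.isPGroup_centralizer g.2).exists_le_sylow
      exact ⟨⟨P, ⟨g.1, hP (Subgroup.mem_centralizer_singleton_iff.2 rfl)⟩,
        fun h => (Fact.out : p.Prime).ne_one
          (g.2.symm.trans (orderOf_eq_one_iff.2 (congrArg Subtype.val h)))⟩, rfl⟩
  have h := Nat.card_congr (Equiv.ofBijective f hf)
  rw [D.card_p, Nat.card_sigma] at h
  have hc : ∀ P : Sylow p G, Nat.card {x : (P : Subgroup G) // x ≠ 1} = p ^ n - 1 := by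
    intro P
    haveI := Fintype.ofFinite (P : Subgroup G)
    rw [← D.card_sylow_eq P, Nat.card_eq_fintype_card, Nat.card_eq_fintype_card,
      Fintype.card_subtype_compl, Fintype.card_subtype_eq]
  rw [Finset.sum_congr rfl (fun P _ => hc P), Finset.sum_const, smul_eq_mul, Finset.card_univ,
    ← Nat.card_eq_fintype_card, show (p ^ n) ^ 2 - 1 = (p ^ n + 1) * (p ^ n - 1) by
      rw [← Nat.sq_sub_sq, one_pow]] at h
  exact Nat.eq_of_mul_eq_mul_right (by have := D.three_le; omega) h

/-! ### The action on the Sylow subgroups -/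

theorem mem_smul_sylow {g x : G} {P : Sylow p G} (hx : x ∈ P) : g * x * g⁻¹ ∈ g • P := by
  show g * x * g⁻¹ ∈ ((g • P : Sylow p G) : Subgroup G)
  rw [Sylow.coe_subgroup_smul]
  exact Subgroup.smul_mem_pointwise_smul x (MulAut.conj g) _ hx

theorem smul_eq_self_of_mem {x : G} {P : Sylow p G} (hx : x ∈ P) : x • P = P :=
  Sylow.smul_eq_iff_mem_normalizer.2 (Subgroup.le_normalizer hx)

theorem eq_one_of_mem_smul_eq {x : G} {P Q : Sylow p G} (hx : x ∈ P) (hne : P ≠ Q) (h : x • Q = Q) :
    x = 1 := by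
  by_contra h1
  have hmem : x ∈ (P : Subgroup G) ⊓ Subgroup.normalizer (Q : Set G) :=
    Subgroup.mem_inf.2 ⟨hx, Sylow.smul_eq_iff_mem_normalizer.1 h⟩
  have heq := P.isPGroup'.inf_normalizer_sylow Q
  have : x ∈ (P : Subgroup G) ⊓ (Q : Subgroup G) := heq ▸ hmem
  exact hne (D.sylow_ti hx this.2 h1)

theorem exists_mem_smul_eq {P Q R : Sylow p G} (hQ : Q ≠ P) (hR : R ≠ P) : ∃ x ∈ P, x • Q = R := by
  classical
  let f : ↥(P : Subgroup G) → {S : Sylow p G // S ≠ P} := fun x =>
    ⟨(x : G) • Q, fun h => hQ (smul_left_cancel (x : G) (h.trans (D.smul_eq_self_of_mem x.2).symm))⟩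
  have hf : Function.Injective f := by
    intro x y h
    have h' : (x : G) • Q = (y : G) • Q := congrArg Subtype.val h
    have := D.eq_one_of_mem_smul_eq (mul_mem (inv_mem y.2) x.2) hQ.symm
      (by rw [mul_smul, h', inv_smul_smul])
    exact Subtype.ext (inv_mul_eq_one.1 this).symm
  have hb := hf.bijective_of_nat_card_le (by
    haveI := Fintype.ofFinite (Sylow p G)
    rw [Nat.card_eq_fintype_card, Fintype.card_subtype_compl, Fintype.card_subtype_eq,
      ← Nat.card_eq_fintype_card, D.card_sylow]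
    exact (D.card_sylow_eq P).ge)
  obtain ⟨x, hx⟩ := hb.2 ⟨R, hR⟩
  exact ⟨x, x.2, congrArg Subtype.val hx⟩

theorem sharp (g : G) (a b c : Sylow p G) (hab : a ≠ b) (hac : a ≠ c) (hbc : b ≠ c)
    (ha : g • a = a) (hb : g • b = b) (hc : g • c = c) : g = 1 := by
  obtain ⟨x, hx, hxb⟩ := D.exists_mem_smul_eq hab.symm hac.symm
  have hx1 : x ≠ 1 := fun h => hbc (by rw [← hxb, h, one_smul])
  have hy : g * x * g⁻¹ ∈ a := by
    have := D.mem_smul_sylow (g := g) hx
    rwa [ha] at this
  have hyb : (g * x * g⁻¹) • b = c := by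
    rw [mul_smul, mul_smul, inv_smul_eq_iff.2 hb.symm, hxb, hc]
  have hcomm : g * x * g⁻¹ = x :=
    (inv_mul_eq_one.1 (D.eq_one_of_mem_smul_eq (mul_mem (inv_mem hx) hy) hab
      (by rw [mul_smul, hyb, ← hxb, inv_smul_smul]))).symm
  have hga : g ∈ a := by
    show g ∈ (a : Subgroup G)
    rw [← D.centralizer_eq a hx hx1]
    exact Subgroup.mem_centralizer_singleton_iff.2 (mul_inv_eq_iff_eq_mul.1 hcomm)
  exact D.eq_one_of_mem_smul_eq hga hab hb

theorem faithful : FaithfulSMul G (Sylow p G) := ⟨fun {g h} heq => by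
  classical
  haveI := Fintype.ofFinite (Sylow p G)
  have h3 : 2 < Fintype.card (Sylow p G) := by
    rw [← Nat.card_eq_fintype_card, D.card_sylow]; linarith [D.three_le]
  obtain ⟨a, b, c, hab, hac, hbc⟩ := Fintype.two_lt_card_iff.1 h3
  exact (inv_mul_eq_one.1 (D.sharp (h⁻¹ * g) a b c hab hac hbc
    (by rw [mul_smul, heq, inv_smul_smul]) (by rw [mul_smul, heq, inv_smul_smul])
    (by rw [mul_smul, heq, inv_smul_smul]))).symm⟩

theorem card_embedding : Nat.card (Fin 3 ↪ Sylow p G) = Nat.card G := by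
  classical
  haveI := Fintype.ofFinite (Sylow p G)
  rw [Nat.card_eq_fintype_card, Fintype.card_embedding_eq, ← Nat.card_eq_fintype_card, D.card_sylow,
    Fintype.card_fin, D.card_eq]
  have h := D.three_le
  obtain ⟨m, hm⟩ : ∃ m, p ^ n = m + 1 := ⟨p ^ n - 1, by omega⟩
  rw [hm, show (m + 1) ^ 2 - 1 = m * (m + 2) by
    rw [show (m + 1) ^ 2 = m * (m + 2) + 1 by ring, Nat.add_sub_cancel]]
  simp [Nat.descFactorial_succ]
  ring

theorem three_transitive : IsMultiplyPretransitive G (Sylow p G) 3 := by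
  classical
  refine ⟨fun u v => ?_⟩
  have hinj : Function.Injective fun g : G => g • u := by
    intro g h heq
    have he : ∀ i, h⁻¹ • g • u i = u i := fun i => by
      have := DFunLike.congr_fun heq i
      simp only [Function.Embedding.smul_apply] at this
      rw [this, inv_smul_smul]
    refine (inv_mul_eq_one.1 (D.sharp (h⁻¹ * g) (u 0) (u 1) (u 2) (u.injective.ne (by decide))
      (u.injective.ne (by decide)) (u.injective.ne (by decide))
      ((mul_smul _ _ _).trans (he 0)) ((mul_smul _ _ _).trans (he 1))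
      ((mul_smul _ _ _).trans (he 2)))).symm
  exact (hinj.bijective_of_nat_card_le D.card_embedding.le).2 v

/-- An element swapping two Sylow subgroups is an involution. -/
theorem swap_mul_self {g : G} {a : Sylow p G} (h1 : g • a ≠ a) (h2 : g • g • a = a) : g * g = 1 := by
  classical
  haveI := Fintype.ofFinite G
  haveI := Fintype.ofFinite (Sylow p G)
  let I := {t : G // orderOf t = 2}
  let T := {s : G × Sylow p G // s.1 • s.2 ≠ s.2 ∧ s.1 • s.1 • s.2 = s.2}
  have hq := D.three_le
  have hII : ∀ t : I, t.1 * t.1 = 1 := fun t => by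
    rw [← pow_two]
    exact (orderOf_eq_prime_iff.1 t.2).1
  have hI1 : ∀ t : I, t.1 ≠ 1 := fun t => (orderOf_eq_prime_iff.1 t.2).2
  -- at most `q` involutions fix a point
  have hfix : ∀ b : Sylow p G, Nat.card {t : I // t.1 • b = b} ≤ p ^ n := by
    intro b
    let X := Σ t : {t : I // t.1 • b = b}, {c : Sylow p G // t.1.1 • c ≠ c}
    let Y := {s : Sylow p G × Sylow p G // (s.1 ≠ b ∧ s.2 ≠ b) ∧ s.1 ≠ s.2}
    let j : X → Y := fun s => ⟨(s.2.1, s.1.1.1 • s.2.1),
      ⟨fun h => s.2.2 (by rw [show s.2.1 = b from h, s.1.2]),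
        fun h => s.2.2 (smul_left_cancel s.1.1.1 (by
          rw [show s.1.1.1 • s.2.1 = b from h, s.1.2]))⟩, fun h => s.2.2 h.symm⟩
    have hj : Function.Injective j := by
      rintro ⟨⟨t, ht⟩, c, hc⟩ ⟨⟨t', ht'⟩, c', hc'⟩ h
      have h0 : (c, t.1 • c) = (c', t'.1 • c') := congrArg Subtype.val h
      obtain ⟨rfl, h⟩ := Prod.mk.inj h0
      have hcb : c ≠ b := fun e => hc (by rw [e, ht])
      have := D.sharp (t'.1⁻¹ * t.1) b c (t.1 • c) hcb.symm
        (fun e => hcb (smul_left_cancel t.1 (e.symm.trans ht.symm))) (Ne.symm hc)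
        (by rw [mul_smul, ht, inv_smul_eq_iff, ht'])
        (by rw [mul_smul, h, inv_smul_smul])
        (by rw [mul_smul, smul_smul t.1, hII, one_smul, inv_smul_eq_iff, h, smul_smul, hII, one_smul])
      obtain rfl : t = t' := Subtype.ext (inv_mul_eq_one.1 this).symm
      rfl
    have hle := Nat.card_le_card_of_injective j hj
    have hY : Nat.card Y = p ^ n * (p ^ n - 1) := by
      let e : Y ≃ (Σ c : {c : Sylow p G // c ≠ b}, {d : {d : Sylow p G // d ≠ b} // d ≠ c}) :=
        { toFun := fun s => ⟨⟨s.1.1, s.2.1.1⟩, ⟨⟨s.1.2, s.2.1.2⟩, fun h => s.2.2 (congrArg Subtype.val h).symm⟩⟩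
          invFun := fun s => ⟨(s.1.1, s.2.1.1), ⟨⟨s.1.2, s.2.1.2⟩, fun h => s.2.2 (Subtype.ext h.symm)⟩⟩
          left_inv := fun s => rfl
          right_inv := fun s => rfl }
      have hpt : Nat.card {c : Sylow p G // c ≠ b} = p ^ n := by
        rw [Nat.card_eq_fintype_card, Fintype.card_subtype_compl, Fintype.card_subtype_eq,
          ← Nat.card_eq_fintype_card, D.card_sylow, Nat.add_sub_cancel]
      have hin : ∀ c : {c : Sylow p G // c ≠ b},
          Nat.card {d : {d : Sylow p G // d ≠ b} // d ≠ c} = p ^ n - 1 := fun c => by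
        rw [Nat.card_eq_fintype_card, Fintype.card_subtype_compl, Fintype.card_subtype_eq,
          ← Nat.card_eq_fintype_card, hpt]
      rw [Nat.card_congr e, Nat.card_sigma, Finset.sum_congr rfl (fun c _ => hin c),
        Finset.sum_const, Finset.card_univ, smul_eq_mul, ← Nat.card_eq_fintype_card, hpt]
    have hX : ∀ t : {t : I // t.1 • b = b}, p ^ n - 1 ≤ Nat.card {c : Sylow p G // t.1.1 • c ≠ c} := by
      intro t
      have hf2 : Fintype.card {c : Sylow p G // t.1.1 • c = c} ≤ 2 := by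
        by_contra hlt
        obtain ⟨u, v, w, huv, huw, hvw⟩ := Fintype.two_lt_card_iff.1 (not_le.1 hlt)
        exact hI1 t.1 (D.sharp _ u.1 v.1 w.1 (fun e => huv (Subtype.ext e))
          (fun e => huw (Subtype.ext e)) (fun e => hvw (Subtype.ext e)) u.2 v.2 w.2)
      rw [Nat.card_eq_fintype_card, Fintype.card_subtype_compl]
      have := D.card_sylow
      rw [Nat.card_eq_fintype_card] at this
      omega
    have hsum : Nat.card {t : I // t.1 • b = b} * (p ^ n - 1) ≤ Nat.card X := by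
      rw [Nat.card_sigma, Nat.card_eq_fintype_card, ← Finset.card_univ, ← smul_eq_mul]
      exact Finset.card_nsmul_le_sum _ _ _ fun t _ => hX t
    exact Nat.le_of_mul_le_mul_right ((hsum.trans hle).trans hY.le) (by omega)
  -- hence at least `|G|` moved pairs, while the swapping pairs are at most as many
  let M := Σ b : Sylow p G, {t : I // t.1 • b ≠ b}
  have hM : Nat.card G ≤ Nat.card M := by
    have hb : ∀ b : Sylow p G, p ^ n * (p ^ n - 1) ≤ Nat.card {t : I // t.1 • b ≠ b} := by
      intro b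
      have h := hfix b
      have hI : Fintype.card I = (p ^ n) ^ 2 := by rw [← Nat.card_eq_fintype_card]; exact D.card_two
      rw [Nat.card_eq_fintype_card] at h
      rw [Nat.card_eq_fintype_card, Fintype.card_subtype_compl, hI, Nat.mul_sub_left_distrib, mul_one, ← sq]
      omega
    rw [Nat.card_sigma]
    refine le_trans (le_of_eq ?_) (Finset.card_nsmul_le_sum _ _ _ fun b _ => hb b)
    rw [Finset.card_univ, ← Nat.card_eq_fintype_card, D.card_sylow, smul_eq_mul, D.card_eq,
      show (p ^ n) ^ 2 - 1 = (p ^ n + 1) * (p ^ n - 1) by rw [← Nat.sq_sub_sq, one_pow]]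
    ring
  let i : M → T := fun s => ⟨(s.2.1.1, s.1), s.2.2, by rw [smul_smul, hII, one_smul]⟩
  have hi : Function.Injective i := by
    rintro ⟨b, t, ht⟩ ⟨b', t', ht'⟩ h
    obtain ⟨h', rfl⟩ := Prod.mk.inj (congrArg Subtype.val h)
    obtain rfl := Subtype.ext h'
    rfl
  have hthird : ∀ b c : Sylow p G, ∃ d, d ≠ b ∧ d ≠ c := by
    intro b c
    by_contra hno
    push Not at hno
    have : (Finset.univ : Finset (Sylow p G)) ⊆ {b, c} := fun d _ => by
      simp only [Finset.mem_insert, Finset.mem_singleton]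
      exact or_iff_not_imp_left.2 fun h => hno d h
    have := (Finset.card_le_card this).trans Finset.card_le_two
    rw [Finset.card_univ, ← Nat.card_eq_fintype_card, D.card_sylow] at this
    omega
  choose d hd1 hd2 using hthird
  let k : T → (Fin 3 ↪ Sylow p G) := fun s =>
    ⟨![s.1.2, s.1.1 • s.1.2, s.1.1 • d s.1.2 (s.1.1 • s.1.2)], by
      obtain ⟨⟨g, b⟩, hb1, hb2⟩ := s
      have e1 : b ≠ g • d b (g • b) := fun e => hd2 b (g • b) (smul_left_cancel g (e.symm.trans hb2.symm))
      have e2 : g • b ≠ g • d b (g • b) := fun e => hd1 b (g • b) (smul_left_cancel g e).symm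
      intro x y hxy
      fin_cases x <;> fin_cases y <;> first
        | rfl
        | exact absurd hxy hb1
        | exact absurd hxy hb1.symm
        | exact absurd hxy e1
        | exact absurd hxy e1.symm
        | exact absurd hxy e2
        | exact absurd hxy e2.symm⟩
  have hk : Function.Injective k := by
    rintro ⟨⟨g, b⟩, hb1, hb2⟩ ⟨⟨g', b'⟩, hb1', hb2'⟩ h
    dsimp only at hb1 hb2 hb1' hb2'
    have h0 : b = b' := DFunLike.congr_fun h 0
    have hgb : g • b = g' • b' := DFunLike.congr_fun h 1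
    have hgd : g • d b (g • b) = g' • d b' (g' • b') := DFunLike.congr_fun h 2
    subst h0
    rw [← hgb] at hgd hb2'
    obtain rfl : g = g' := (inv_mul_eq_one.1 (D.sharp (g'⁻¹ * g) b (g • b) (d b (g • b)) hb1.symm
      (hd1 _ _).symm (hd2 _ _).symm (by rw [mul_smul, hgb, inv_smul_smul])
      (by rw [mul_smul, hb2, inv_smul_eq_iff, hb2'])
      (by rw [mul_smul, hgd, inv_smul_smul]))).symm
    rfl
  have hTcard : Nat.card T ≤ Nat.card M :=
    ((Nat.card_le_card_of_injective k hk).trans D.card_embedding.le).trans hM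
  obtain ⟨s, hs⟩ := (hi.bijective_of_nat_card_le hTcard).2 ⟨(g, a), h1, h2⟩
  obtain ⟨rfl, -⟩ := Prod.mk.inj (congrArg Subtype.val hs)
  exact hII _

/-- The recognition. -/
theorem recognition : ∃ (F : Type) (_ : Field F) (_ : Fintype F), Fintype.card F = p ^ n ∧
    Nonempty (G ≃* Matrix.ProjGenLinGroup (Fin 2) F) := by
  classical
  haveI := Fintype.ofFinite (Sylow p G)
  haveI := D.faithful
  have h3 := D.three_transitive
  have hlt : 2 < Fintype.card (Sylow p G) := by
    rw [← Nat.card_eq_fintype_card, D.card_sylow]; linarith [D.three_le]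
  obtain ⟨a, b, c, hab, hac, hbc⟩ := Fintype.two_lt_card_iff.1 hlt
  obtain ⟨w, σ, hwa, hwb, hwc, hww, hσ, -⟩ :=
    Classification.SharplyThreeProjective.exists_swap_hom h3 D.sharp hab hac hbc
  have hinv : ∀ d, σ d = d⁻¹ := by
    intro d
    apply Subtype.ext
    rw [hσ, InvMemClass.coe_inv]
    obtain ⟨hda, hdb⟩ := Subgroup.mem_inf.1 d.2
    rw [mem_stabilizer_iff] at hda hdb
    have := D.swap_mul_self (g := w * d) (a := a) (by rw [mul_smul, hda, hwa]; exact hab.symm)
      (by rw [mul_smul, mul_smul, hda, hwa, hdb, hwb])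
    rw [eq_comm, inv_eq_iff_mul_eq_one, show (d : G) * (w * d * w) = w⁻¹ * (w * d * (w * d)) * w by group,
      this, mul_one, inv_mul_cancel]
  obtain ⟨F, iF, iF', hF, hiso⟩ := Classification.SharplyThreeProjective.of_commutative h3 D.sharp
    hab hac hbc hwa hwb hwc
    (fun x hx y hy => congrArg Subtype.val
      (Classification.SharplyThreeProjective.comm_of_inv σ hinv ⟨x, hx⟩ ⟨y, hy⟩))
    (fun d hd => by
      have h := congrArg Subtype.val (hinv ⟨d * d, mul_mem hd hd⟩)
      rw [hσ] at h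
      exact h)
  rw [D.card_sylow] at hF
  exact ⟨F, iF, iF', by omega, hiso⟩

end Data

end CfsgLib.PGLSameCounts
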