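import Cfsg.Agent.PGLSameCounts.Model
import Cfsg.Agent.PGLSameCounts.Points
import Cfsg.Agent.S3993
import Cfsg.Agent.S3994

/-!
# `PGL (2, q)`, `q` odd, is determined by its order and the set of its numbers of same order elements
-/

set_option autoImplicit false
set_option linter.style.haveILetI false
set_option linter.unusedSectionVars false

namespace CfsgLib.PGLSameCounts

section Counts

variable {G : Type*} [Group G] [Finite G]

theorem card_order_one : Nat.card {g : G // orderOf g = 1} = 1 := by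
  rw [Nat.card_eq_one_iff_unique]
  exact ⟨⟨fun a b => Subtype.ext ((orderOf_eq_one_iff.1 a.2).trans (orderOf_eq_one_iff.1 b.2).symm)⟩,
    ⟨⟨1, orderOf_one⟩⟩⟩

theorem card_order_eq_zero {k : ℕ} (hk : ¬ k ∣ Nat.card G) :
    Nat.card {g : G // orderOf g = k} = 0 := by
  rw [Nat.card_eq_zero]
  exact Or.inl ⟨fun g => hk (g.2 ▸ orderOf_dvd_natCard g.1)⟩

theorem even_card_order {k : ℕ} (hk : 3 ≤ k) : Even (Nat.card {g : G // orderOf g = k}) := by
  classical
  haveI := Fintype.ofFinite G
  rw [Nat.card_eq_fintype_card, Fintype.card_subtype, even_iff_two_dvd,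
    ← CharP.cast_eq_zero_iff (ZMod 2) 2, Finset.card_eq_sum_ones, Nat.cast_sum]
  refine Finset.sum_involution (fun g _ => g⁻¹) (fun g _ => by decide) ?_ ?_ (fun g _ => inv_inv g)
  · intro g hg _ heq
    rw [Finset.mem_filter] at hg
    have h2 : g ^ 2 = 1 := by
      rw [pow_two]
      nth_rw 1 [← heq]
      exact inv_mul_cancel g
    have := Nat.le_of_dvd (by norm_num) (hg.2 ▸ orderOf_dvd_of_pow_eq_one h2)
    omega
  · intro g hg
    rw [Finset.mem_filter] at hg ⊢
    exact ⟨Finset.mem_univ _, by rw [orderOf_inv, hg.2]⟩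

theorem card_eq_sum_orders (R : ℕ → Prop) [DecidablePred R] :
    Nat.card {g : G // R (orderOf g)} =
      ∑ k ∈ (Nat.card G).divisors.filter R, Nat.card {g : G // orderOf g = k} := by
  classical
  haveI := Fintype.ofFinite G
  rw [Nat.card_eq_fintype_card, Fintype.card_subtype,
    Finset.card_eq_sum_card_fiberwise (f := orderOf) (t := (Nat.card G).divisors.filter R)
      (fun g hg => by
        rw [Finset.mem_coe, Finset.mem_filter] at hg ⊢
        exact ⟨Nat.mem_divisors.2 ⟨orderOf_dvd_natCard g, Nat.card_pos.ne'⟩, hg.2⟩)]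
  refine Finset.sum_congr rfl fun k hk => ?_
  rw [Nat.card_eq_fintype_card, Fintype.card_subtype, Finset.filter_filter]
  congr 1
  ext g
  simp only [Finset.mem_filter, Finset.mem_univ, true_and]
  exact ⟨fun h => h.2, fun h => ⟨h ▸ (Finset.mem_filter.1 hk).2, h⟩⟩

theorem gcd_eq {p n m N : ℕ} (hp : p.Prime) (hm : ¬ p ∣ m) (hn : n ≤ N) :
    Nat.gcd (p ^ n * m) (p ^ N) = p ^ n := by
  obtain ⟨j, rfl⟩ := Nat.exists_eq_add_of_le hn
  rw [pow_add, Nat.gcd_mul_left, Nat.Coprime.pow_right j ((hp.coprime_iff_not_dvd.2 hm).symm), mul_one]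

/-- The arithmetic of the set of numbers of same order elements. -/
theorem data_of_values {p n : ℕ} [Fact p.Prime] (hp2 : p ≠ 2) (hn : n ≠ 0)
    (hcard : Nat.card G = p ^ n * ((p ^ n) ^ 2 - 1))
    (hval : ∀ k, Nat.card {g : G // orderOf g = k} = 1 ∨
      Nat.card {g : G // orderOf g = k} = (p ^ n) ^ 2 - 1 ∨
      p ^ n ∣ Nat.card {g : G // orderOf g = k})
    (hsq : ∃ k, Nat.card {g : G // orderOf g = k} = (p ^ n) ^ 2) : Data G p n := by
  classical
  have hp : p.Prime := Fact.out
  have hq : 3 ≤ p ^ n := by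
    have h2 := hp.two_le
    exact le_trans (by omega) (Nat.le_self_pow hn p)
  have hq2 : 9 ≤ (p ^ n) ^ 2 := by nlinarith
  have hpsub : ¬ p ∣ (p ^ n) ^ 2 - 1 := by
    intro hd
    have h2 : p ∣ (p ^ n) ^ 2 := (dvd_pow_self p hn).trans (dvd_pow_self _ two_ne_zero)
    have h1 := Nat.dvd_sub h2 hd
    rw [Nat.sub_sub_self (by omega)] at h1
    exact hp.ne_one (Nat.dvd_one.1 h1)
  obtain ⟨k₀, hk₀⟩ := hsq
  have htwo : Nat.card {g : G // orderOf g = 2} = (p ^ n) ^ 2 := by
    rcases Nat.lt_or_ge k₀ 3 with h | h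
    · have h0 : k₀ ≠ 0 := by
        rintro rfl
        rw [Nat.card_eq_zero.2 (Or.inl ⟨fun g => (orderOf_pos g.1).ne' g.2⟩)] at hk₀
        omega
      have h1 : k₀ ≠ 1 := by
        rintro rfl
        rw [card_order_one] at hk₀
        omega
      rwa [show k₀ = 2 by omega] at hk₀
    · exfalso
      have := even_card_order (G := G) h
      rw [hk₀, Nat.even_pow, Nat.even_pow] at this
      exact hp2 (hp.even_iff.1 this.1.1)
  have hone : Nat.card {g : G // g ^ p = 1} = 1 + Nat.card {g : G // orderOf g = p} := by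
    haveI := Fintype.ofFinite G
    rw [Nat.card_eq_fintype_card, Nat.card_eq_fintype_card, Fintype.card_subtype, Fintype.card_subtype,
      show (Finset.univ.filter fun g : G => g ^ p = 1) =
        insert 1 (Finset.univ.filter fun g : G => orderOf g = p) by
        ext g
        simp only [Finset.mem_filter, Finset.mem_univ, true_and, Finset.mem_insert]
        rw [← orderOf_dvd_iff_pow_eq_one, Nat.dvd_prime hp, orderOf_eq_one_iff],
      Finset.card_insert_of_notMem (by simp [hp.ne_one.symm]), add_comm]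
  have hpG : p ∣ Nat.card G := hcard ▸ (dvd_pow_self p hn).trans (dvd_mul_right _ _)
  have hfrob := Cfsg.Agent.S3993.result p hpG
  rw [hone] at hfrob
  have hNp : ¬ p ^ n ∣ Nat.card {g : G // orderOf g = p} := fun h =>
    hp.ne_one (Nat.dvd_one.1 ((Nat.dvd_add_left ((dvd_pow_self p hn).trans h)).1 hfrob))
  have hp_card : Nat.card {g : G // orderOf g = p} = (p ^ n) ^ 2 - 1 := by
    rcases hval p with h | h | h
    · rw [h] at hfrob
      exact absurd ((Nat.prime_dvd_prime_iff_eq hp Nat.prime_two).1 hfrob) hp2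
    · exact h
    · exact absurd h hNp
  -- every other order occurs a multiple of `q` times
  have hdvd : ∀ k, k ≠ 1 → k ≠ p → p ^ n ∣ Nat.card {g : G // orderOf g = k} := by
    set S := (Nat.card G).divisors.filter (fun k => k ≠ 1) with hS
    set J := S.filter (fun k => ¬ p ^ n ∣ Nat.card {g : G // orderOf g = k}) with hJ
    have hJv : ∀ k ∈ J, Nat.card {g : G // orderOf g = k} = (p ^ n) ^ 2 - 1 := by
      intro k hk
      rw [hJ, Finset.mem_filter, hS, Finset.mem_filter, Nat.mem_divisors] at hk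
      rcases hval k with h | h | h
      · exfalso
        rcases Nat.lt_or_ge k 3 with h' | h'
        · have hk0 : k ≠ 0 := fun e => Nat.card_pos.ne' (Nat.eq_zero_of_zero_dvd (e ▸ hk.1.1.1))
          obtain rfl : k = 2 := by omega
          omega
        · have := even_card_order (G := G) h'
          rw [h] at this
          exact Nat.not_even_one this
      · exact h
      · exact absurd h hk.2
    have hpJ : p ∈ J := by
      rw [hJ, Finset.mem_filter, hS, Finset.mem_filter, Nat.mem_divisors]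
      exact ⟨⟨⟨hpG, Nat.card_pos.ne'⟩, hp.ne_one⟩, hNp⟩
    obtain ⟨r, hr⟩ : p ^ n ∣ ∑ k ∈ S.filter (fun k => p ^ n ∣ Nat.card {g : G // orderOf g = k}),
        Nat.card {g : G // orderOf g = k} :=
      Finset.dvd_sum fun k hk => (Finset.mem_filter.1 hk).2
    have hsum : J.card * ((p ^ n) ^ 2 - 1) + p ^ n * r + 1 = Nat.card G := by
      rw [← smul_eq_mul, ← Finset.sum_const, ← Finset.sum_congr rfl hJv, ← hr, hJ,
        add_comm (∑ x ∈ _, _), Finset.sum_filter_add_sum_filter_not, hS,
        ← card_eq_sum_orders (fun k => k ≠ 1)]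
      haveI := Fintype.ofFinite G
      rw [Nat.card_eq_fintype_card, Nat.card_eq_fintype_card, Fintype.card_subtype_compl]
      have h1 : Fintype.card {g : G // orderOf g = 1} = 1 := by
        rw [← Nat.card_eq_fintype_card, card_order_one]
      have := Fintype.card_pos (α := G)
      omega
    have hlt : J.card < p ^ n := by
      by_contra hge
      have := Nat.mul_le_mul_right ((p ^ n) ^ 2 - 1) (not_lt.1 hge)
      omega
    have hj : J.card = 1 := by
      have h1 : p ^ n * (r + J.card * p ^ n) + 1 = p ^ n * ((p ^ n) ^ 2 - 1) + J.card := by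
        obtain ⟨m, hm⟩ : ∃ m, (p ^ n) ^ 2 = m + 1 := ⟨(p ^ n) ^ 2 - 1, by omega⟩
        have hm' : J.card * (m + 1) = J.card * p ^ n * p ^ n := by rw [← hm]; ring
        rw [hm, Nat.add_sub_cancel, hcard, hm, Nat.add_sub_cancel] at hsum
        rw [hm, Nat.add_sub_cancel]
        nlinarith
      have h2 := congrArg (· % p ^ n) h1
      simp only [Nat.mul_add_mod, Nat.mod_eq_of_lt hlt, Nat.mod_eq_of_lt (show 1 < p ^ n by omega)] at h2
      exact h2.symm
    obtain ⟨x, hx⟩ := Finset.card_eq_one.1 hj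
    intro k hk1 hkp
    by_contra hnd
    have hkJ : k ∈ J := by
      rw [hJ, Finset.mem_filter, hS, Finset.mem_filter, Nat.mem_divisors]
      exact ⟨⟨⟨by_contra fun h => hnd (by rw [card_order_eq_zero h]; exact dvd_zero _),
        Nat.card_pos.ne'⟩, hk1⟩, hnd⟩
    rw [hx, Finset.mem_singleton] at hpJ hkJ
    exact hkp (hkJ.trans hpJ.symm)
  refine ⟨hp2, hn, hcard, hp_card, htwo, fun g hg => ?_⟩
  -- no element has order a proper multiple of `p`
  by_contra hne
  set B := Nat.card {x : G // p ∣ orderOf x ∧ orderOf x ≠ p} with hB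
  have hBpos : 0 < B := by
    haveI : Nonempty {x : G // p ∣ orderOf x ∧ orderOf x ≠ p} := ⟨⟨g, hg, hne⟩⟩
    exact Nat.card_pos
  have hBlt : B < Nat.card G := by
    haveI := Fintype.ofFinite G
    rw [hB, Nat.card_eq_fintype_card, Nat.card_eq_fintype_card]
    refine Fintype.card_subtype_lt (x := (1 : G)) fun h => ?_
    rw [orderOf_one] at h
    exact hp.ne_one (Nat.dvd_one.1 h.1)
  have hBq : p ^ n ∣ B := by
    rw [hB, card_eq_sum_orders (fun k => p ∣ k ∧ k ≠ p)]
    refine Finset.dvd_sum fun k hk => ?_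
    rw [Finset.mem_filter] at hk
    exact hdvd k (fun e => hp.ne_one (Nat.dvd_one.1 (e ▸ hk.2.1))) hk.2.2
  have hA : Nat.card {x : G // p ∣ orderOf x} = ((p ^ n) ^ 2 - 1) + B := by
    haveI := Fintype.ofFinite G
    rw [← hp_card, hB, Nat.card_eq_fintype_card, Nat.card_eq_fintype_card, Nat.card_eq_fintype_card,
      ← Fintype.card_subtype_or_disjoint]
    · exact Fintype.card_congr (Equiv.subtypeEquivRight fun x =>
        ⟨fun h => or_iff_not_imp_left.2 fun h' => ⟨h, h'⟩,
          fun h => h.elim (fun e => e ▸ dvd_rfl) And.left⟩)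
    · rw [Pi.disjoint_iff]
      intro x
      simp only [Prop.disjoint_iff]
      tauto
  have h94 := (Cfsg.Agent.S3994.result (G := G) p hp.pos).resolve_left (by rw [hA]; omega)
  have hnG : n ≤ Nat.card G := by
    rw [hcard]
    exact (Nat.lt_pow_self hp.one_lt).le.trans (Nat.le_mul_of_pos_right _ (by omega))
  nth_rw 2 [hcard] at h94
  rw [gcd_eq hp hpsub hnG, hcard, Nat.mul_div_cancel_left _ (by omega : 0 < p ^ n), hA,
    Nat.dvd_add_right (dvd_refl _)] at h94
  have hco : Nat.Coprime (p ^ n) ((p ^ n) ^ 2 - 1) :=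
    Nat.Coprime.coprime_dvd_left (dvd_pow_self _ two_ne_zero)
      ((Nat.coprime_self_sub_right (show 1 ≤ (p ^ n) ^ 2 by omega)).2 (Nat.coprime_one_right _))
  have := Nat.le_of_dvd hBpos (hco.mul_dvd_of_dvd_of_dvd hBq h94)
  omega

end Counts

open Matrix in
/-- Isomorphic fields have isomorphic projective linear groups. -/
noncomputable def pglCongr {F F' : Type*} [Field F] [Field F'] (e : F ≃+* F') :
    (GL (Fin 2) F ⧸ Subgroup.center (GL (Fin 2) F)) ≃*
      (GL (Fin 2) F' ⧸ Subgroup.center (GL (Fin 2) F')) :=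
  let φ : GL (Fin 2) F ≃* GL (Fin 2) F' := Units.mapEquiv e.mapMatrix.toMulEquiv
  QuotientGroup.congr _ _ φ (by
    ext x
    rw [Subgroup.mem_map]
    refine ⟨?_, fun h => ⟨φ.symm x, ?_, φ.apply_symm_apply x⟩⟩
    · rintro ⟨y, hy, rfl⟩
      rw [Subgroup.mem_center_iff] at hy ⊢
      intro z
      show z * φ y = φ y * z
      rw [← φ.apply_symm_apply z, ← map_mul, hy, map_mul]
    · rw [Subgroup.mem_center_iff] at h ⊢
      intro z
      apply φ.injective
      rw [map_mul, map_mul, φ.apply_symm_apply, h])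

theorem main {F : Type*} [Field F] [Fintype F] (hodd : Odd (Fintype.card F)) {G : Type*} [Group G]
    [Finite G] (hcard : Nat.card G = Nat.card (GL (Fin 2) F ⧸ Subgroup.center (GL (Fin 2) F)))
    (hnse : {c : ℕ | 0 < c ∧ ∃ n : ℕ, c = Nat.card {g : G // orderOf g = n}} =
      {c : ℕ | 0 < c ∧ ∃ n : ℕ, c = Nat.card {g : (GL (Fin 2) F ⧸ Subgroup.center (GL (Fin 2) F)) //
        orderOf g = n}}) :
    Nonempty (G ≃* (GL (Fin 2) F ⧸ Subgroup.center (GL (Fin 2) F))) := by
  classical
  obtain ⟨p, hcp⟩ := CharP.exists F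
  haveI := hcp
  obtain ⟨n, hp, hq⟩ := FiniteField.card F p
  haveI := Fact.mk hp
  have hp2 : p ≠ 2 := by
    rintro rfl
    rw [hq, Nat.odd_pow_iff n.ne_zero] at hodd
    exact absurd hodd (by decide)
  have h2 : (2 : F) ≠ 0 := Ring.two_ne_zero (by rw [ringChar.eq F p]; exact hp2)
  have hPG : Nat.card (GL (Fin 2) F ⧸ Subgroup.center (GL (Fin 2) F)) =
      p ^ (n : ℕ) * ((p ^ (n : ℕ)) ^ 2 - 1) := by
    rw [← hq]
    exact (CfsgLib.Linear.card_PGL (n := Fin 2) (F := F)).trans CfsgLib.Linear.card_SL_two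
  have hval : ∀ k, Nat.card {g : G // orderOf g = k} = 1 ∨
      Nat.card {g : G // orderOf g = k} = (p ^ (n : ℕ)) ^ 2 - 1 ∨
      p ^ (n : ℕ) ∣ Nat.card {g : G // orderOf g = k} := by
    intro k
    rcases Nat.eq_zero_or_pos (Nat.card {g : G // orderOf g = k}) with h0 | h0
    · exact Or.inr (Or.inr (h0 ▸ dvd_zero _))
    · obtain ⟨-, m, hm⟩ := (Set.ext_iff.1 hnse _).1 ⟨h0, k, rfl⟩
      rw [hm]
      by_cases hm1 : m = 1
      · subst hm1; exact Or.inl card_order_one
      by_cases hmp : m = p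
      · subst hmp; exact Or.inr (Or.inl (by rw [card_order_p, hq]))
      · exact Or.inr (Or.inr (hq ▸ card_order_dvd (F := F) hp2 hm1 hmp))
  obtain ⟨-, k, hk⟩ := (Set.ext_iff.1 hnse ((p ^ (n : ℕ)) ^ 2)).2
    ⟨pow_pos (pow_pos hp.pos _) _, 2, by rw [card_order_two h2, hq]⟩
  have D := data_of_values hp2 n.ne_zero (hcard.trans hPG) hval ⟨k, hk.symm⟩
  obtain ⟨F', iF, iF', hF', ⟨e⟩⟩ := D.recognition
  exact ⟨e.trans (pglCongr (FiniteField.ringEquivOfCardEq (hF'.trans hq.symm)))⟩

end CfsgLib.PGLSameCounts
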