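import Cfsg.Agent.PGLSpectrum.Basic
import Cfsg.Agent.Linear.Basic

/-!
# Numbers of elements of given order in `PGL (2, q)`, `q` odd

There are `q ^ 2` involutions (classes of invertible trace zero matrices) and `q ^ 2 - 1` elements of
order `p` (classes of `1 + N`, `N ≠ 0` nilpotent); every other number of elements of a given order
`k ≠ 1` is a multiple of `q`, since a Sylow `p`-subgroup acts on these elements without fixed points.
-/

set_option autoImplicit false
set_option linter.unusedSectionVars false

open Matrix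

namespace CfsgLib.PGLSameCounts

variable {F : Type*} [Field F] [Fintype F]

local notation "PG" => GL (Fin 2) F ⧸ Subgroup.center (GL (Fin 2) F)
local notation "M₂" => Matrix (Fin 2) (Fin 2) F

theorem mk_eq_mk_iff (A B : GL (Fin 2) F) :
    (QuotientGroup.mk A : PG) = QuotientGroup.mk B ↔ ∃ c : F, (B : M₂) = c • (A : M₂) := by
  rw [QuotientGroup.eq, GeneralLinearGroup.mem_center_iff_val_eq_scalar]
  simp only [Set.mem_range, scalar_apply, ← smul_one_eq_diagonal]
  refine exists_congr fun c => ⟨fun h => ?_, fun h => ?_⟩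
  · have := congrArg (fun X : M₂ => (A : M₂) * X) h.symm
    simpa [← Matrix.mul_assoc, Units.val_mul] using this
  · rw [Units.val_mul, h, Matrix.mul_smul]
    simp

theorem det_smul_ne_zero (A : GL (Fin 2) F) : (A : M₂).det ≠ 0 :=
  ((Matrix.isUnit_iff_isUnit_det _).mp A.isUnit).ne_zero

/-- A nilpotent `2 × 2` matrix has trace and determinant zero. -/
theorem trace_det_of_pow_eq_zero {N : M₂} {k : ℕ} (hN : N ^ k = 0) : N.trace = 0 ∧ N.det = 0 := by
  rcases k with _ | k
  · rw [pow_zero] at hN
    exact absurd hN one_ne_zero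
  have hd : N.det = 0 := by
    have := congrArg Matrix.det hN
    rw [det_pow, det_zero] at this
    · exact pow_eq_zero_iff (Nat.succ_ne_zero k) |>.1 this
  refine ⟨?_, hd⟩
  by_contra ht
  have hs : ∀ j, N ^ (j + 1) = N.trace ^ j • N := by
    intro j
    induction j with
    | zero => simp
    | succ j ih =>
      rw [pow_succ, ih, Matrix.smul_mul, CfsgLib.PGLSpectrum.sq_eq, hd, zero_smul, sub_zero, smul_smul,
        ← pow_succ]
  rw [hs, smul_eq_zero] at hN
  rcases hN with h | h
  · exact ht (pow_eq_zero_iff'.1 h).1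
  · exact ht (by rw [h, trace_zero])

/-! ### The quadratic cone -/

/-- Trace zero matrices of determinant zero, by two free entries. -/
noncomputable def cone : F × F ≃ {N : M₂ // N.trace = 0 ∧ N.det = 0} := by
  classical
  exact
  { toFun := fun x => if hy : x.2 = 0 then ⟨!![0, x.1; 0, 0], by simp [trace_fin_two, det_fin_two]⟩
      else ⟨!![x.1, -(x.1 * x.1) / x.2; x.2, -x.1], by
        constructor
        · simp [trace_fin_two]
        · simp only [det_fin_two, of_apply, cons_val', cons_val_zero, cons_val_one,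
            cons_val_fin_one]
          field_simp
          ring⟩
    invFun := fun N => if N.1 1 0 = 0 then (N.1 0 1, 0) else (N.1 0 0, N.1 1 0)
    left_inv := fun x => by
      obtain ⟨a, c⟩ := x
      by_cases hc : c = 0
      · subst hc; simp
      · simp [hc]
    right_inv := fun N => by
      obtain ⟨N, ht, hd⟩ := N
      rw [trace_fin_two] at ht
      rw [det_fin_two] at hd
      have h11 : N 1 1 = -N 0 0 := by linear_combination ht
      rw [h11] at hd
      by_cases hc : N 1 0 = 0
      · have ha : N 0 0 = 0 := by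
          rw [hc, mul_zero, sub_zero] at hd
          exact mul_self_eq_zero.1 (by linear_combination -hd)
        apply Subtype.ext
        ext i j
        fin_cases i <;> fin_cases j <;> simp [hc, ha, h11]
      · apply Subtype.ext
        ext i j
        fin_cases i <;> fin_cases j <;> simp [hc, h11]
        field_simp
        linear_combination hd }

theorem card_cone : Nat.card {N : M₂ // N.trace = 0 ∧ N.det = 0} = Fintype.card F ^ 2 := by
  rw [← Nat.card_congr cone, Nat.card_prod, Nat.card_eq_fintype_card, sq]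

theorem card_trace_zero : Nat.card {N : M₂ // N.trace = 0} = Fintype.card F ^ 3 := by
  let e : F × F × F ≃ {N : M₂ // N.trace = 0} :=
    { toFun := fun x => ⟨!![x.1, x.2.1; x.2.2, -x.1], by simp [trace_fin_two]⟩
      invFun := fun N => (N.1 0 0, N.1 0 1, N.1 1 0)
      left_inv := fun x => by simp
      right_inv := fun N => by
        obtain ⟨N, ht⟩ := N
        rw [trace_fin_two] at ht
        have h11 : N 1 1 = -N 0 0 := by linear_combination ht
        apply Subtype.ext
        ext i j
        fin_cases i <;> fin_cases j <;> simp [h11] }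
  rw [← Nat.card_congr e, Nat.card_prod, Nat.card_prod, Nat.card_eq_fintype_card]
  ring

/-! ### Involutions -/

theorem orderOf_eq_two_iff (h2 : (2 : F) ≠ 0) (A : GL (Fin 2) F) :
    orderOf (QuotientGroup.mk A : PG) = 2 ↔ (A : M₂).trace = 0 := by
  rw [orderOf_eq_prime_iff, CfsgLib.PGLSpectrum.mk_pow_eq_one_iff, sq, CfsgLib.PGLSpectrum.sq_eq]
  constructor
  · rintro ⟨⟨c, hc⟩, hne⟩
    by_contra ht
    apply hne
    rw [QuotientGroup.eq_one_iff, GeneralLinearGroup.mem_center_iff_val_eq_scalar]
    refine ⟨(A : M₂).trace⁻¹ * ((A : M₂).det + c), ?_⟩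
    rw [sub_eq_iff_eq_add, ← add_smul, add_comm c] at hc
    rw [scalar_apply, ← smul_one_eq_diagonal, ← smul_smul, ← hc, inv_smul_smul₀ ht]
  · intro ht
    refine ⟨⟨-(A : M₂).det, by rw [ht, zero_smul, zero_sub, neg_smul]⟩, fun h => ?_⟩
    rw [QuotientGroup.eq_one_iff, GeneralLinearGroup.mem_center_iff_val_eq_scalar] at h
    obtain ⟨c, hc⟩ := h
    rw [← hc, trace_fin_two, scalar_apply, diagonal_apply_eq, diagonal_apply_eq, ← two_mul] at ht
    have hc0 : c = 0 := (mul_eq_zero.1 ht).resolve_left h2
    exact det_smul_ne_zero A (by rw [← hc, hc0]; simp)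

theorem card_preimage (S : PG → Prop) :
    Nat.card {A : GL (Fin 2) F // S (QuotientGroup.mk A)} =
      (Fintype.card F - 1) * Nat.card {x : PG // S x} := by
  have h := QuotientGroup.card_preimage_mk (Subgroup.center (GL (Fin 2) F)) {x : PG | S x}
  rw [CfsgLib.Linear.card_center_GL] at h
  exact h

theorem card_order_two (h2 : (2 : F) ≠ 0) :
    Nat.card {x : PG // orderOf x = 2} = Fintype.card F ^ 2 := by
  classical
  have h := card_preimage (F := F) (fun x => orderOf x = 2)
  simp only [orderOf_eq_two_iff h2] at h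
  let e : {A : GL (Fin 2) F // (A : M₂).trace = 0} ≃
      {N : {N : M₂ // N.trace = 0} // ¬ N.1.det = 0} :=
    { toFun := fun A => ⟨⟨A.1, A.2⟩, det_smul_ne_zero A.1⟩
      invFun := fun N => ⟨GeneralLinearGroup.mkOfDetNeZero N.1.1 N.2, N.1.2⟩
      left_inv := fun A => Subtype.ext (Units.ext rfl)
      right_inv := fun N => rfl }
  have hsplit := Nat.card_congr (Equiv.sumCompl fun N : {N : M₂ // N.trace = 0} => N.1.det = 0)
  rw [Nat.card_sum, card_trace_zero, ← Nat.card_congr e, h,
    Nat.card_congr (Equiv.subtypeSubtypeEquivSubtypeInter (fun N : M₂ => N.trace = 0)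
      fun N => N.det = 0), card_cone] at hsplit
  have hq := Fintype.one_lt_card (α := F)
  obtain ⟨m, hm⟩ : ∃ m, Fintype.card F = m + 2 := ⟨Fintype.card F - 2, by omega⟩
  rw [hm, show m + 2 - 1 = m + 1 by omega] at hsplit
  rw [hm]
  nlinarith

/-! ### Elements of order `p` -/

variable {p : ℕ} [Fact p.Prime] [CharP F p]

theorem card_order_p :
    Nat.card {x : PG // orderOf x = p} = Fintype.card F ^ 2 - 1 := by
  classical
  have hp : p.Prime := Fact.out
  have : CharP M₂ p := Matrix.charP p
  let T := {N : {N : M₂ // N.trace = 0 ∧ N.det = 0} // N.1 ≠ 0}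
  have hone : ∀ N : T, (1 + N.1.1).det ≠ 0 := fun N => by
    obtain ⟨⟨N, ht, hd⟩, -⟩ := N
    rw [trace_fin_two] at ht
    rw [det_fin_two] at hd
    have : (1 + N).det = 1 := by
      rw [det_fin_two]
      simp only [Matrix.add_apply, one_apply_eq, ne_eq, Fin.reduceEq, not_false_eq_true,
        one_apply_ne, zero_add]
      linear_combination ht + hd
    rw [this]
    exact one_ne_zero
  have hsq : ∀ N : T, N.1.1 * N.1.1 = 0 := fun N => by
    rw [CfsgLib.PGLSpectrum.sq_eq, N.1.2.1, N.1.2.2, zero_smul, zero_smul, sub_zero]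
  let u : T → PG := fun N => QuotientGroup.mk (GeneralLinearGroup.mkOfDetNeZero _ (hone N))
  have hu : ∀ N, orderOf (u N) = p := by
    intro N
    refine orderOf_eq_prime ((CfsgLib.PGLSpectrum.mk_pow_eq_one_iff _ p).2 ⟨1, ?_⟩) fun h => ?_
    · show (1 + N.1.1) ^ p = _
      have hp0 : N.1.1 ^ p = 0 := by
        rw [← Nat.sub_add_cancel hp.two_le, pow_add, sq, hsq, mul_zero]
      rw [add_pow_char_of_commute (p := p) (Commute.one_left _), one_pow, hp0, add_zero, one_smul]
    · rw [QuotientGroup.eq_one_iff, GeneralLinearGroup.mem_center_iff_val_eq_scalar] at h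
      obtain ⟨c, hc⟩ := h
      have hc' : (1 : M₂) + N.1.1 = c • 1 := by
        rw [smul_one_eq_diagonal]
        exact hc.symm
      have hN : N.1.1 = (c - 1) • 1 := by rw [sub_smul, one_smul, ← hc']; abel
      have h0 := hsq N
      rw [hN, Matrix.smul_mul, one_mul, smul_smul, smul_eq_zero] at h0
      exact N.2 (by rw [hN, mul_self_eq_zero.1 (h0.resolve_right one_ne_zero), zero_smul])
  have hinj : Function.Injective u := by
    intro N N' h
    obtain ⟨c, hc⟩ := (mk_eq_mk_iff _ _).1 h
    have hc' : (1 : M₂) + N'.1.1 = c • ((1 : M₂) + N.1.1) := hc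
    have ht := congrArg Matrix.trace hc'
    rw [trace_smul, trace_add, trace_add, N'.1.2.1, N.1.2.1, trace_one, add_zero, Fintype.card_fin,
      smul_eq_mul] at ht
    by_cases h2 : (2 : F) = 0
    · have hd := congrArg Matrix.det hc'
      have hd1 : ∀ N : T, (1 + N.1.1).det = 1 := fun N => by
        obtain ⟨⟨N, ht, hd⟩, -⟩ := N
        rw [trace_fin_two] at ht
        rw [det_fin_two] at hd
        rw [det_fin_two]
        simp only [Matrix.add_apply, one_apply_eq, ne_eq, Fin.reduceEq, not_false_eq_true,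
          one_apply_ne, zero_add]
        linear_combination ht + hd
      rw [det_smul, hd1, hd1, Fintype.card_fin, mul_one] at hd
      have hc1 : c = 1 := by
        have h0 : (c - 1) * (c - 1) = 0 := by linear_combination -hd + (1 - c) * h2
        exact sub_eq_zero.1 (mul_self_eq_zero.1 h0)
      rw [hc1, one_smul, add_right_inj] at hc'
      exact Subtype.ext (Subtype.ext hc'.symm)
    · have hc1 : c = 1 := mul_right_cancel₀ h2 (by push_cast at ht; rw [one_mul, ← ht])
      rw [hc1, one_smul, add_right_inj] at hc'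
      exact Subtype.ext (Subtype.ext hc'.symm)
  have hsurj : ∀ x : PG, orderOf x = p → ∃ N, u N = x := by
    intro x hx
    obtain ⟨A, rfl⟩ := QuotientGroup.mk_surjective x
    obtain ⟨h1, hne⟩ := orderOf_eq_prime_iff.1 hx
    obtain ⟨c, hc⟩ := (CfsgLib.PGLSpectrum.mk_pow_eq_one_iff A p).1 h1
    obtain ⟨l, rfl⟩ := surjective_frobenius F p c
    have hl0 : l ≠ 0 := by
      intro h
      have hd := congrArg Matrix.det hc
      rw [det_pow, h, frobenius_def, zero_pow hp.ne_zero, zero_smul, det_zero] at hd
      · exact det_smul_ne_zero A ((pow_eq_zero_iff hp.ne_zero).1 hd)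
    let N : M₂ := l⁻¹ • (A : M₂) - 1
    have hN : N ^ p = 0 := by
      rw [sub_pow_char_of_commute (p := p) (Commute.one_right _), one_pow, _root_.smul_pow, hc,
        frobenius_def, smul_smul, ← mul_pow, inv_mul_cancel₀ hl0, one_pow, one_smul, sub_self]
    obtain ⟨ht, hd⟩ := trace_det_of_pow_eq_zero hN
    have hA : (A : M₂) = l • (1 + N) := by
      simp only [N]
      rw [add_sub_cancel, smul_smul, mul_inv_cancel₀ hl0, one_smul]
    have hN0 : N ≠ 0 := fun h => hne (by
      rw [QuotientGroup.eq_one_iff, GeneralLinearGroup.mem_center_iff_val_eq_scalar]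
      exact ⟨l, by rw [scalar_apply, ← smul_one_eq_diagonal, hA, h, add_zero]⟩)
    exact ⟨⟨⟨N, ht, hd⟩, hN0⟩, (mk_eq_mk_iff _ _).2 ⟨l, hA⟩⟩
  have hcard : Nat.card T = Nat.card {x : PG // orderOf x = p} :=
    Nat.card_congr (Equiv.ofBijective (fun N => ⟨u N, hu N⟩)
      ⟨fun a b h => hinj (congrArg Subtype.val h), fun x => (hsurj x x.2).imp fun N h => Subtype.ext h⟩)
  rw [← hcard, ← card_cone (F := F)]
  have hsplit := Nat.card_congr (Equiv.sumCompl fun N : {N : M₂ // N.trace = 0 ∧ N.det = 0} => N.1 = 0)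
  rw [Nat.card_sum] at hsplit
  have h1 : Nat.card {N : {N : M₂ // N.trace = 0 ∧ N.det = 0} // N.1 = 0} = 1 := by
    rw [Nat.card_eq_one_iff_unique]
    exact ⟨⟨fun a b => Subtype.ext (Subtype.ext (a.2.trans b.2.symm))⟩, ⟨⟨⟨0, by simp⟩, rfl⟩⟩⟩
  rw [← hsplit, h1]
  show Nat.card T = 1 + Nat.card T - 1
  omega

/-! ### The other orders -/

/-- The unipotent upper triangular matrices. -/
def unip : Multiplicative F →* PG :=
  (QuotientGroup.mk' _).comp
    { toFun := fun x => GeneralLinearGroup.mkOfDetNeZero !![1, x.toAdd; 0, 1] (by simp [det_fin_two])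
      map_one' := Units.ext (by
        show !![(1 : F), 0; 0, 1] = 1
        rw [one_fin_two])
      map_mul' := fun x y => Units.ext (by
        show !![(1 : F), x.toAdd + y.toAdd; 0, 1] = !![1, x.toAdd; 0, 1] * !![1, y.toAdd; 0, 1]
        ext i j
        fin_cases i <;> fin_cases j <;> simp [Matrix.mul_apply, Fin.sum_univ_two, add_comm]) }

theorem unip_injective : Function.Injective (unip (F := F)) := by
  intro x y h
  obtain ⟨c, hc⟩ := (mk_eq_mk_iff _ _).1 h
  have hc' : !![(1 : F), y.toAdd; 0, 1] = c • !![(1 : F), x.toAdd; 0, 1] := hc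
  have h00 := congrFun (congrFun hc' 0) 0
  have h01 := congrFun (congrFun hc' 0) 1
  simp only [of_apply, cons_val', cons_val_zero, cons_val_one, cons_val_fin_one, Matrix.smul_apply,
    smul_eq_mul] at h00 h01
  rw [mul_one] at h00
  rw [← h00, one_mul] at h01
  exact Multiplicative.toAdd.injective h01.symm

/-- An element whose order is neither one nor `p` commutes with no unipotent element. -/
theorem card_order_dvd (hp2 : p ≠ 2) {k : ℕ} (hk1 : k ≠ 1) (hkp : k ≠ p) :
    Fintype.card F ∣ Nat.card {x : PG // orderOf x = k} := by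
  classical
  have hp : p.Prime := Fact.out
  rcases isEmpty_or_nonempty {x : PG // orderOf x = k} with he | ⟨⟨x₀, hx₀⟩⟩
  · rw [Nat.card_of_isEmpty]
    exact dvd_zero _
  have hspec : ∀ x : PG, orderOf x ∣ p ∨ orderOf x ∣ Fintype.card F - 1 ∨ orderOf x ∣ Fintype.card F + 1 := by
    intro x
    have h : orderOf x ∈ Set.range (orderOf : PG → ℕ) := ⟨x, rfl⟩
    rw [CfsgLib.PGLSpectrum.range_orderOf p fun h => absurd h hp2] at h
    exact h
  obtain ⟨n, -, hn⟩ := FiniteField.card F p
  have hpq : p ∣ Fintype.card F := hn ▸ dvd_pow_self p n.ne_zero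
  have hq := Fintype.one_lt_card (α := F)
  have hno : ¬ p ∣ Fintype.card F - 1 ∧ ¬ p ∣ Fintype.card F + 1 := by
    constructor <;> intro h
    · have := Nat.dvd_sub hpq h
      rw [Nat.sub_sub_self (by omega)] at this
      exact hp.ne_one (Nat.dvd_one.1 this)
    · exact hp.ne_one (Nat.dvd_one.1 ((Nat.dvd_add_right hpq).1 h))
  have hpk : ¬ p ∣ k := by
    intro hpk
    rcases hspec x₀ with h | h | h
    · rw [hx₀] at h
      exact hkp (((Nat.dvd_prime hp).1 h).resolve_left hk1)
    · exact hno.1 (hpk.trans (hx₀ ▸ h))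
    · exact hno.2 (hpk.trans (hx₀ ▸ h))
  letI : MulAction (Multiplicative F) {x : PG // orderOf x = k} :=
    { smul := fun a x => ⟨unip a * x.1 * (unip a)⁻¹, by
        rw [← MulAut.conj_apply, MulEquiv.orderOf_eq, x.2]⟩
      one_smul := fun x => Subtype.ext (by show unip 1 * x.1 * (unip 1)⁻¹ = x.1; simp)
      mul_smul := fun a b x => Subtype.ext (by
        show unip (a * b) * x.1 * (unip (a * b))⁻¹ = unip a * (unip b * x.1 * (unip b)⁻¹) * (unip a)⁻¹
        simp [mul_assoc]) }
  have hfree : ∀ x : {x : PG // orderOf x = k}, MulAction.stabilizer (Multiplicative F) x = ⊥ := by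
    intro x
    rw [Subgroup.eq_bot_iff_forall]
    intro a ha
    by_contra ha1
    have hc : Commute (unip a) x.1 := mul_inv_eq_iff_eq_mul.1 (congrArg Subtype.val ha)
    have hap : orderOf (unip a) = p := by
      rw [orderOf_injective _ unip_injective]
      refine orderOf_eq_prime (Multiplicative.toAdd.injective ?_) ha1
      rw [toAdd_pow, toAdd_one, nsmul_eq_mul, CharP.cast_eq_zero, zero_mul]
    have hord : orderOf (unip a * x.1) = p * k := by
      rw [hc.orderOf_mul_eq_mul_orderOf_of_coprime, hap, x.2]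
      rw [hap, x.2]
      exact (Nat.Prime.coprime_iff_not_dvd hp).2 hpk
    rcases hspec (unip a * x.1) with h | h | h <;> rw [hord] at h
    · have h' : p * k ∣ p * 1 := by rwa [mul_one]
      exact hk1 (Nat.dvd_one.1 ((Nat.mul_dvd_mul_iff_left hp.pos).1 h'))
    · exact hno.1 ((dvd_mul_right p k).trans h)
    · exact hno.2 ((dvd_mul_right p k).trans h)
  rw [Nat.card_congr (MulAction.selfEquivOrbitsQuotientProd hfree), Nat.card_prod,
    Nat.card_congr (Multiplicative.toAdd (α := F)), Nat.card_eq_fintype_card (α := F)]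
  exact dvd_mul_left _ _

end CfsgLib.PGLSameCounts
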